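import Cfsg.Agent.H99.SpFour.SubLine
import Cfsg.Agent.H98.MaximalSpSubfield

set_option autoImplicit false
set_option linter.unusedSectionVars false

/-!
In odd characteristic the subfield subgroup of a prime index subfield is maximal in the symplectic group of any
rank at least two. The argument is that of `H98.MaximalSpSubfield`.
-/

namespace Cfsg.Agent.H99.SpFour

open Cfsg.Agent.H98
open scoped Matrix

variable {m : ℕ} {F : Type*} [Field F]

local notation "V" => (Fin m ⊕ Fin m → F)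
local notation "Mat" => Matrix (Fin m ⊕ Fin m) (Fin m ⊕ Fin m) F
local notation "β" => Cfsg.Agent.H2.sympBilin m F

variable {F₀ : Subfield F}
variable [Fintype F] [NeZero m] {r : ℕ}

/-- The subfield subgroup is maximal in the symplectic group. -/
theorem sp_subfield_maximal_two (hm : 2 ≤ m) (h2c : (2 : F) ≠ 0) (hr : r.Prime) (hcard : Fintype.card F = Nat.card F₀ ^ r) :
    Cfsg.Geo.IsMaximalIn (Cfsg.spGL m F) (subGroupF (Fin m ⊕ Fin m) F₀ ⊓ Cfsg.spGL m F) := by
  classical
  haveI := Fintype.ofFinite F₀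
  set i0 : Fin m := ⟨0, by omega⟩
  set i1 : Fin m := ⟨1, by omega⟩
  have h01 : i0 ≠ i1 := by simp [i0, i1, Fin.ext_iff]
  have hstrict : ∃ x ∈ Cfsg.spGL m F, x ∉ subGroupF (Fin m ⊕ Fin m) F₀ ⊓ Cfsg.spGL m F := by
    obtain ⟨c, hc⟩ : ∃ c : F, c ∉ F₀ := by
      by_contra hall; push Not at hall
      have h1 : Fintype.card F ≤ Fintype.card F₀ :=
        Fintype.card_le_of_injective (fun c => (⟨c, hall c⟩ : F₀)) fun a b h => congrArg Subtype.val h
      rw [hcard, Nat.card_eq_fintype_card] at h1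
      have h2 := Nat.pow_lt_pow_right (Fintype.one_lt_card (α := F₀)) hr.one_lt
      rw [pow_one] at h2; omega
    refine ⟨spTrans (eV i0) c, spTrans_mem _ _, fun h => hc ?_⟩
    have hfix : (spTrans (eV i0 : V) c : Mat) *ᵥ eV i0 = eV i0 := by
      rw [spTrans_mulVec, beta_self, mul_zero, zero_smul, add_zero]
    have h1 := mulVec_rat (rational_of_fix h.1 (isRat_eV i0) (eV_ne_zero i0) hfix) (isRat_fV (F₀ := F₀) i0) (.inl i0)
    rw [spTrans_mulVec, beta_fV] at h1
    simpa [eV, fV] using h1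
  refine isMaximalIn_of inf_le_right hstrict fun M h1 h2 g hgM hgH => ?_
  by_contra hcon
  have hM : IsSpProperOver F₀ M := ⟨h1, h2, hcon⟩
  have hgS : g ∉ subGroupF (Fin m ⊕ Fin m) F₀ := fun h => hgH ⟨h, h2 hgM⟩
  set v := (g : Mat) *ᵥ eV i0 with hv
  have hkey : ∀ u' : V, IsRatVec F₀ u' → u' ≠ 0 → β u' v ≠ 0 := fun u' hu' hu'0 h =>
    hgS (sp_rat_orth_mem hm h2c hr hcard hM hgM (isRat_eV i0) (eV_ne_zero i0) hu' hu'0 h)
  have hrm : 2 * m ≤ r := by
    by_contra hrn
    push Not at hrn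
    let T : (Fin m ⊕ Fin m → F₀) → F := fun a => β (fun x => (a x : F)) v
    have hTni : ¬ Function.Injective T := fun hT => by
      have := Fintype.card_le_of_injective T hT
      rw [Fintype.card_fun, Fintype.card_sum, Fintype.card_fin, hcard, Nat.card_eq_fintype_card] at this
      exact absurd this (not_le.mpr (Nat.pow_lt_pow_right (Fintype.one_lt_card (α := F₀)) (by omega)))
    obtain ⟨a, a', haa, hne⟩ := Function.not_injective_iff.mp hTni
    refine hkey ((fun x => (a x : F)) - fun x => (a' x : F))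
      (isRat_sub (fun x => (a x).2) fun x => (a' x).2)
      (fun h => hne (funext fun x => Subtype.ext (sub_eq_zero.mp (congrFun h x)))) ?_
    rw [map_sub, LinearMap.sub_apply, sub_eq_zero]
    exact haa
  have hodd : Odd r := hr.odd_of_ne_two (by omega)
  have hoddq : Odd (Nat.card F₀) := by
    have h4 : ¬ Fintype.card F % 2 = 0 := fun h => h2c (by
      haveI : CharP F 2 := ringChar.of_eq (FiniteField.even_card_iff_char_two.mpr h)
      exact CharTwo.two_eq_zero)
    rw [hcard, ← Nat.even_iff, Nat.not_even_iff_odd, Nat.odd_pow_iff hr.ne_zero] at h4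
    exact h4
  have hsq : ∀ c : F, c * c ∈ F₀ → c ∈ F₀ := fun c hc => mem_subfield_of_sq F₀ hodd hoddq hcard hc
  set D : GL (Fin m ⊕ Fin m) F := signGL (({i0} : Finset (Fin m)).disjSum {i0}) with hD
  have hDS : D ∈ subGroupF (Fin m ⊕ Fin m) F₀ ⊓ Cfsg.spGL m F :=
    ⟨(signGL_mem F₀ _ (by rw [Finset.card_disjSum]; exact ⟨1, rfl⟩)).1, signGL_spGL _⟩
  set j := g * D * g⁻¹ with hjdef
  have hjM : j ∈ M := M.mul_mem (M.mul_mem hgM (h1 hDS)) (M.inv_mem hgM)
  have hjj : j * j = 1 := by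
    calc g * D * g⁻¹ * (g * D * g⁻¹) = g * (D * D) * g⁻¹ := by group
      _ = 1 := by rw [hD, signGL_sq]; simp
  have hjv : (j : Mat) *ᵥ v = -v := by
    rw [hjdef, hv]
    simp only [Units.val_mul, ← Matrix.mulVec_mulVec, gl_inv_mulVec]
    rw [← Matrix.mulVec_neg]
    congr 1
    funext x
    rw [hD, signGL_mulVec, Pi.neg_apply]
    by_cases hx : x = Sum.inl i0
    · subst hx; simp
    · simp [eV, hx]
  have hjne : ∀ z : GL (Fin m ⊕ Fin m) F, (z : Mat) = -1 → j ≠ z := fun z hz h => by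
    have e : D = z := by
      refine gl_ext fun w => ?_
      have hD' : D = g⁻¹ * j * g := by rw [hjdef]; group
      rw [hD', h]
      simp only [Units.val_mul, ← Matrix.mulVec_mulVec, hz, Matrix.neg_mulVec, Matrix.one_mulVec,
        Matrix.mulVec_neg, gl_inv_mulVec]
    have := congrFun (congrArg (fun w : GL (Fin m ⊕ Fin m) F => (w : Mat) *ᵥ eV i1) e) (.inl i1)
    simp only [hD, signGL_mulVec, hz, Matrix.neg_mulVec, Matrix.one_mulVec] at this
    simp [eV, h01.symm] at this
    exact h2c (by linear_combination this)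
  have hjH : j ∉ subGroupF (Fin m ⊕ Fin m) F₀ := fun h => by
    have hrat := rational_of_invol hsq hjj h
    obtain ⟨x, hx⟩ : ∃ x, (j : Mat) *ᵥ Pi.single x 1 + Pi.single x 1 ≠ 0 := by
      by_contra hall; push Not at hall
      refine hjne j (Matrix.ext_of_mulVec_single fun y => ?_) rfl
      rw [eq_neg_of_add_eq_zero_left (hall y), Matrix.neg_mulVec, Matrix.one_mulVec]
    refine hkey _ (isRat_add (mulVec_rat hrat (isRat_single x)) (isRat_single x)) hx ?_
    refine beta_eigen h2c (h2 hjM) ?_ hjv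
    rw [Matrix.mulVec_add, Matrix.mulVec_mulVec, ← Units.val_mul, hjj, Units.val_one, Matrix.one_mulVec, add_comm]
  refine hjH (sp_rat_orth_mem hm h2c hr hcard hM hjM (isRat_eV i0) (eV_ne_zero i0) (isRat_eV i0) (eV_ne_zero i0) ?_)
  have hiso := mem_spGL.mp (h2 hjM) (eV i0) ((j : Mat) *ᵥ eV i0)
  rw [Matrix.mulVec_mulVec, ← Units.val_mul, hjj, Units.val_one, Matrix.one_mulVec,
    beta_swap (eV i0 : V) ((j : Mat) *ᵥ eV i0)] at hiso
  have h : (2 : F) * β (eV i0) ((j : Mat) *ᵥ eV i0) = 0 := by linear_combination -hiso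
  exact (mul_eq_zero.mp h).resolve_left h2c

/-- The subfield subgroup of a rational structure is maximal in the symplectic group. -/
theorem sp_subfield_maximal_two' (hm : 2 ≤ m) (h2c : (2 : F) ≠ 0) (hr : r.Prime) (hcard : Fintype.card F = Nat.card F₀ ^ r)
    (P : GL (Fin m ⊕ Fin m) F) (ζ : F) (hζ : ζ ≠ 0)
    (hP : Cfsg.Geo.IsFormRationalStructure (Cfsg.sympForm m F) F₀ ζ P) :
    Cfsg.Geo.IsMaximalIn (Cfsg.spGL m F) (Cfsg.Geo.subfieldSubgroup F₀ P ⊓ Cfsg.spGL m F) := by
  obtain ⟨Q, hQ, hQsim⟩ := exists_similitude_frame ζ hζ P hP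
  have h := isMaximalIn_conj Q (sp_subfield_maximal_two hm h2c hr hcard)
  rw [Subgroup.map_inf _ _ _ (MulAut.conj Q).injective, spGL_map_similitude (inv_ne_zero hζ) hQsim,
    ← subfieldSubgroup_eq_map, hQ] at h
  exact h

end Cfsg.Agent.H99.SpFour
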